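import Groth.Agent.EGA43Art.Over

/-!
Flatness over an Artinian local ring detected after base change to local rings, at the points over
the closed points only.
-/

set_option autoImplicit false
universe u

open TensorProduct IsLocalRing

namespace Groth.EGA43Closed

open Groth.EGA43Art (chi chi_tmul eq_zero_of_forall_mem_pow_smul)

/-- Let the `N i j` be flat over the local rings `A' i`, with `A → A' i` jointly injective. If for
every `i` the maps `M ⊗ k_i → N i j ⊗ k_i` are jointly injective, `k_i` the residue field of `A' i`,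
then `M` is flat over the Artinian local ring `A`. -/
theorem flat_of_detect_residue {A : Type u} [CommRing A] [IsArtinianRing A] [IsLocalRing A]
    {M : Type u} [AddCommGroup M] [Module A M]
    {ι : Type u} (A' : ι → Type u) [∀ i, CommRing (A' i)] [∀ i, IsLocalRing (A' i)]
    [∀ i, Algebra A (A' i)] (hu : ∀ a : A, (∀ i, algebraMap A (A' i) a = 0) → a = 0)
    {κ : ι → Type u} (N : ∀ i, κ i → Type u) [∀ i j, AddCommGroup (N i j)]
    [∀ i j, Module (A' i) (N i j)] [∀ i j, Module A (N i j)]
    [∀ i j, IsScalarTower A (A' i) (N i j)] [∀ i j, Module.Flat (A' i) (N i j)]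
    (ψ : ∀ i j, M →ₗ[A] N i j)
    (hdet : ∀ (i : ι) (Q : Type u) [AddCommGroup Q] [Module (A' i) Q] [Module A Q]
      [IsScalarTower A (A' i) Q], (∀ a ∈ maximalIdeal A, ∀ e : Q, a • e = 0) →
      (∀ a ∈ maximalIdeal (A' i), ∀ e : Q, a • e = 0) →
      ∀ w : M ⊗[A] Q, (∀ j, chi (A' := A' i) (ψ i j) w = 0) → w = 0) :
    Module.Flat A M := by
  classical
  let V := M ⧸ (maximalIdeal A • ⊤ : Submodule A M)
  let _ : Field (A ⧸ maximalIdeal A) := Ideal.Quotient.field _
  let b := Module.Free.chooseBasis (A ⧸ maximalIdeal A) V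
  choose e he using fun j => Submodule.Quotient.mk_surjective _ (b j)
  let F : (Module.Free.ChooseBasisIndex (A ⧸ maximalIdeal A) V →₀ A) →ₗ[A] M :=
    Finsupp.linearCombination A e
  obtain ⟨n, hn⟩ := IsArtinianRing.isNilpotent_jacobson_bot (R := A)
  rw [IsLocalRing.jacobson_eq_maximalIdeal ⊥ bot_ne_top] at hn
  -- surjectivity
  have hsurj : Function.Surjective F := by
    have h1 : ∀ v : V, ∃ y ∈ LinearMap.range F, Submodule.Quotient.mk y = v := by
      intro v
      choose g hg using fun j => Ideal.Quotient.mk_surjective (b.repr v j)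
      refine ⟨F (∑ j ∈ (b.repr v).support, Finsupp.single j (g j)), LinearMap.mem_range_self _ _, ?_⟩
      conv_rhs => rw [← b.linearCombination_repr v]
      rw [Finsupp.linearCombination_apply (A ⧸ maximalIdeal A) (b.repr v), Finsupp.sum, map_sum,
        ← Submodule.mkQ_apply, map_sum]
      refine Finset.sum_congr rfl fun j _ => ?_
      simp only [F, Finsupp.linearCombination_single, map_smul, Submodule.mkQ_apply, he, ← hg j]
      rfl
    have h2 : ∀ k : ℕ, ∀ x : M, ∃ y ∈ LinearMap.range F, x - y ∈ maximalIdeal A ^ k •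
        (⊤ : Submodule A M) := by
      intro k
      induction k with
      | zero =>
        refine fun x => ⟨0, Submodule.zero_mem _, ?_⟩
        rw [pow_zero, Ideal.one_eq_top, Submodule.top_smul]
        trivial
      | succ k ih =>
        intro x
        obtain ⟨y, hy, hxy⟩ := ih x
        suffices ∀ z ∈ maximalIdeal A ^ k • (⊤ : Submodule A M), ∃ y ∈ LinearMap.range F,
            z - y ∈ maximalIdeal A ^ (k + 1) • (⊤ : Submodule A M) by
          obtain ⟨y', hy', h'⟩ := this _ hxy
          exact ⟨y + y', Submodule.add_mem _ hy hy', by rwa [← sub_sub]⟩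
        intro z hz
        refine Submodule.smul_induction_on hz (fun r hr x _ => ?_) fun z z' hz hz' => ?_
        · obtain ⟨y, hy, hxy⟩ := h1 (Submodule.Quotient.mk x)
          refine ⟨r • y, Submodule.smul_mem _ _ hy, ?_⟩
          rw [← smul_sub, pow_succ, Submodule.mul_smul]
          exact Submodule.smul_mem_smul hr ((Submodule.Quotient.eq _).1 hxy.symm)
        · obtain ⟨y, hy, h⟩ := hz
          obtain ⟨y', hy', h'⟩ := hz'
          exact ⟨y + y', Submodule.add_mem _ hy hy', by
            rw [add_sub_add_comm]; exact Submodule.add_mem _ h h'⟩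
    intro x
    obtain ⟨y, hy, hxy⟩ := h2 n x
    rw [hn, Ideal.zero_eq_bot, Submodule.bot_smul, Submodule.mem_bot, sub_eq_zero] at hxy
    exact hxy ▸ hy
  -- injectivity
  have hinj : Function.Injective F := by
    rw [← LinearMap.ker_eq_bot, eq_bot_iff]
    intro a ha
    rw [LinearMap.mem_ker] at ha
    rw [Submodule.mem_bot]
    ext l₀
    by_cases hl₀ : l₀ ∈ a.support
    swap
    · rw [Finsupp.notMem_support_iff.1 hl₀, Finsupp.zero_apply]
    refine hu _ fun i => ?_
    let S := {l // l ∈ a.support}
    let r : S → A' i := fun l => algebraMap A (A' i) (a l.1)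
    have hrel : ∀ j, ∑ l : S, r l • ψ i j (e l.1) = 0 := by
      intro j
      have h0 := congrArg (ψ i j) ha
      rw [map_zero] at h0
      rw [← h0]
      simp only [F, Finsupp.linearCombination_apply, Finsupp.sum, map_sum, map_smul, r,
        algebraMap_smul]
      exact Finset.sum_coe_sort a.support fun l => a l • ψ i j (e l)
    choose N₀ c y hy hc using fun j =>
      Module.Flat.isTrivialRelation_of_sum_smul_eq_zero (hrel j)
    let C : Submodule (A' i) (S → A' i) :=
      Submodule.span (A' i) (Set.range fun p : Σ j, Fin (N₀ j) => fun l => c p.1 l p.2)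
    let k' := IsLocalRing.ResidueField (A' i)
    -- no functional modulo the maximal ideal kills every column
    have horth : ∀ v : S → k', (∀ p : Σ j, Fin (N₀ j), ∑ l, v l * residue _ (c p.1 l p.2) = 0) →
        v = 0 := by
      intro v hv
      have hQ : ∀ x ∈ maximalIdeal A, ∀ q : k', x • q = 0 := by
        intro x hx q
        obtain ⟨n, hn⟩ := IsArtinianRing.isNilpotent_jacobson_bot (R := A)
        rw [IsLocalRing.jacobson_eq_maximalIdeal ⊥ bot_ne_top] at hn
        rw [Algebra.smul_def, IsScalarTower.algebraMap_apply A (A' i) k']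
        have : algebraMap A (A' i) x ∈ maximalIdeal (A' i) := by
          refine (maximalIdeal.isMaximal (A' i)).isPrime.mem_of_pow_mem n ?_
          rw [← map_pow]
          have h : x ^ n ∈ (0 : Ideal A) := hn ▸ Ideal.pow_mem_pow hx n
          rw [Ideal.zero_eq_bot, Ideal.mem_bot] at h
          rw [h, map_zero]
          exact zero_mem _
        rw [show algebraMap (A' i) k' (algebraMap A (A' i) x) = 0 from
          (IsLocalRing.residue_eq_zero_iff _).2 this, zero_mul]
      have hQ' : ∀ x ∈ maximalIdeal (A' i), ∀ q : k', x • q = 0 := fun x hx q => by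
        rw [Algebra.smul_def, show algebraMap (A' i) k' x = 0 from
          (IsLocalRing.residue_eq_zero_iff _).2 hx, zero_mul]
      have hw : (∑ l : S, e l.1 ⊗ₜ[A] v l : M ⊗[A] k') = 0 := by
        refine hdet i k' hQ hQ' _ fun j => ?_
        simp only [map_sum, chi_tmul, hy j, sum_tmul, smul_tmul]
        rw [Finset.sum_comm]
        refine Finset.sum_eq_zero fun m _ => ?_
        rw [← tmul_sum]
        have : ∑ l : S, c j l m • v l = 0 := by
          rw [← hv ⟨j, m⟩]
          refine Finset.sum_congr rfl fun l _ => ?_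
          rw [Algebra.smul_def, mul_comm]
          rfl
        rw [this, tmul_zero]
      funext l
      let ε : M →ₗ[A] A ⧸ maximalIdeal A :=
        ((b.coord l.1).restrictScalars A) ∘ₗ Submodule.mkQ _
      have hε : ∀ l', ε (e l') = if l' = l.1 then 1 else 0 := fun l' => by
        show b.repr (Submodule.Quotient.mk (e l')) l.1 = _
        rw [he, b.repr_self, Finsupp.single_apply]
      let sm : (A ⧸ maximalIdeal A) →ₗ[A] k' →ₗ[A] k' :=
        Submodule.liftQ _ (LinearMap.lsmul A k') fun x hx => LinearMap.ext fun q => hQ x hx q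
      have h2 := congrArg (TensorProduct.lift (sm ∘ₗ ε)) hw
      simp only [map_sum, map_zero, TensorProduct.lift.tmul, LinearMap.comp_apply, hε] at h2
      rw [Finset.sum_eq_single l (fun l' _ hl' => by
        rw [if_neg fun h => hl' (Subtype.ext h), map_zero]
        rfl) (fun h => absurd (Finset.mem_univ _) h), if_pos rfl] at h2
      exact (show sm 1 (v l) = v l from one_smul A (v l)).symm.trans h2
    -- hence the columns generate
    have hC : C = ⊤ := by
      by_contra hne
      let C' : Submodule k' (S → k') := Submodule.span k'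
        (Set.range fun p : Σ j, Fin (N₀ j) => fun l => residue _ (c p.1 l p.2))
      have hC' : C' = ⊤ := by
        by_contra hne'
        obtain ⟨φ, hφ0, hφ⟩ := Submodule.exists_le_ker_of_lt_top _ (lt_top_iff_ne_top.2 hne')
        refine hφ0 ?_
        have hv := horth (fun l => φ (Pi.single l 1)) fun p => by
          have h := hφ (Submodule.subset_span ⟨p, rfl⟩)
          rw [LinearMap.mem_ker, LinearMap.pi_apply_eq_sum_univ φ] at h
          rw [← h]
          refine Finset.sum_congr rfl fun l _ => ?_
          rw [smul_eq_mul, mul_comm]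
          congr 2
          funext l'
          simp [Pi.single_apply, eq_comm]
        exact LinearMap.pi_ext fun l x => by
          rw [← mul_one x, ← smul_eq_mul, Pi.single_smul, map_smul, congrFun hv l]
          simp
      refine hne (top_le_iff.1 (Submodule.le_of_le_smul_of_le_jacobson_bot Module.Finite.fg_top
        (I := maximalIdeal (A' i)) (IsLocalRing.maximalIdeal_le_jacobson ⊥) fun z _ => ?_))
      have hz : (fun l => residue _ (z l)) ∈ C' := hC' ▸ Submodule.mem_top
      obtain ⟨z', hz', hzz'⟩ : ∃ z' ∈ C, ∀ l, residue _ (z' l) = residue _ (z l) := by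
        suffices ∀ u ∈ C', ∃ z' ∈ C, ∀ l, residue _ (z' l) = u l from this _ hz
        intro u hu
        induction hu using Submodule.span_induction with
        | mem u hu =>
          obtain ⟨p, rfl⟩ := hu
          exact ⟨_, Submodule.subset_span ⟨p, rfl⟩, fun _ => rfl⟩
        | zero => exact ⟨0, zero_mem _, fun _ => map_zero _⟩
        | add u u' _ _ h h' =>
          obtain ⟨z₁, h₁, h₁'⟩ := h
          obtain ⟨z₂, h₂, h₂'⟩ := h'
          exact ⟨z₁ + z₂, add_mem h₁ h₂, fun l => by simp [h₁', h₂']⟩
        | smul s u _ h =>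
          obtain ⟨s, rfl⟩ := IsLocalRing.residue_surjective s
          obtain ⟨z₁, h₁, h₁'⟩ := h
          exact ⟨s • z₁, Submodule.smul_mem _ _ h₁, fun l => by simp [h₁']⟩
      refine Submodule.mem_sup.2 ⟨z', hz', z - z', ?_, by abel⟩
      rw [← Finset.univ_sum_single (z - z')]
      refine Submodule.sum_mem _ fun l _ => ?_
      have hm : (z - z') l ∈ maximalIdeal (A' i) :=
        (IsLocalRing.residue_eq_zero_iff _).1 (by simp [hzz'])
      rw [show Pi.single l ((z - z') l) = (z - z') l • (Pi.single l 1 : S → A' i) by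
        rw [← Pi.single_smul, smul_eq_mul, mul_one]]
      exact Submodule.smul_mem_smul hm Submodule.mem_top
    -- and so every coefficient vanishes
    have hall : ∀ z ∈ C, ∑ l, r l * z l = 0 := by
      intro z hz
      induction hz using Submodule.span_induction with
      | mem z hz => obtain ⟨p, rfl⟩ := hz; exact hc p.1 p.2
      | zero => simp
      | add z z' _ _ h h' => simp [mul_add, Finset.sum_add_distrib, h, h']
      | smul s z _ h => simp [mul_left_comm _ s, ← Finset.mul_sum, h]
    have := hall (Pi.single ⟨l₀, hl₀⟩ 1) (hC ▸ Submodule.mem_top)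
    rw [Finset.sum_eq_single ⟨l₀, hl₀⟩ (fun l _ hl => by rw [Pi.single_eq_of_ne hl, mul_zero])
      (fun h => absurd (Finset.mem_univ _) h), Pi.single_eq_same, mul_one] at this
    exact this
  exact Module.Flat.of_linearEquiv (LinearEquiv.ofBijective F ⟨hinj, hsurj⟩).symm

variable {A R : Type u} [CommRing A] [CommRing R] [Algebra A R]
variable {A' P : Type u} [CommRing A'] [Algebra A A'] [CommRing P] [Algebra R P] [Algebra A' P]
  [Algebra A P] [IsScalarTower A R P] [IsScalarTower A A' P] [Algebra.IsPushout A A' R P]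

/-- Detection at the primes of `P = R ⊗[A] A'` over `x` and over a given ideal killing `Q`. -/
theorem detect_over_closed [IsLocalRing A] [IsNoetherianRing R] (x : Ideal R) [x.IsPrime]
    {M : Type u} [AddCommGroup M] [Module R M] [Module A M] [IsScalarTower A R M]
    {Mx : Type u} [AddCommGroup Mx] [Module R Mx] [Module A Mx] [IsScalarTower A R Mx]
    [Module (Localization.AtPrime x) Mx] [IsScalarTower R (Localization.AtPrime x) Mx]
    [Module.Finite (Localization.AtPrime x) Mx]
    (loc : M →ₗ[R] Mx) [IsLocalizedModule x.primeCompl loc]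
    {κ : Type u} (q : κ → Ideal P) [∀ j, (q j).IsPrime] (hq : ∀ j, (q j).comap (algebraMap R P) = x)
    (m' : Ideal A') (hall : ∀ p : Ideal P, p.IsPrime → p.comap (algebraMap R P) = x →
      m'.map (algebraMap A' P) ≤ p → ∃ j, q j = p)
    (Nq : κ → Type u) [∀ j, AddCommGroup (Nq j)] [∀ j, Module P (Nq j)] [∀ j, Module A' (Nq j)]
    [∀ j, IsScalarTower A' P (Nq j)] [∀ j, Module A (Nq j)] [∀ j, IsScalarTower A A' (Nq j)]
    (ν : ∀ j, P ⊗[R] M →ₗ[P] Nq j) [∀ j, IsLocalizedModule (q j).primeCompl (ν j)]
    (ψ : ∀ j, Mx →ₗ[A] Nq j)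
    (hψR : ∀ j (r : R) (y : Mx), ψ j (r • y) = algebraMap R P r • ψ j y) (hψ : ∀ j m, ψ j (loc m) = ν j ((1 : P) ⊗ₜ m))
    {Q : Type u} [AddCommGroup Q] [Module A' Q] [Module A Q] [IsScalarTower A A' Q]
    (hQ : ∀ a ∈ maximalIdeal A, ∀ e : Q, a • e = 0) (hQ' : ∀ a ∈ m', ∀ e : Q, a • e = 0)
    (w : Mx ⊗[A] Q) (hw : ∀ j, chi (A' := A') (ψ j) w = 0) : w = 0 := by
  classical
  -- clear the denominator of `w`
  have hloc : IsLocalizedModule x.primeCompl
      (TensorProduct.AlgebraTensorModule.rTensor A Q loc) := inferInstance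
  obtain ⟨⟨t, ⟨s, hs⟩⟩, hst⟩ := IsLocalizedModule.surj x.primeCompl
    (TensorProduct.AlgebraTensorModule.rTensor A Q loc) w
  have hst' : s • w = TensorProduct.AlgebraTensorModule.rTensor A Q loc t := hst
  -- `M ⊗[A] Q ≃ (P ⊗[R] M) ⊗[A'] Q`
  let g : P ⊗[R] M ≃ₗ[A'] A' ⊗[A] M := Algebra.IsPushout.cancelBaseChange A A' R P M
  let e : (P ⊗[R] M) ⊗[A'] Q ≃ₗ[A] M ⊗[A] Q :=
    ((g.rTensor Q).restrictScalars A) ≪≫ₗ
      (TensorProduct.comm A' (A' ⊗[A] M) Q).restrictScalars A ≪≫ₗ
      (TensorProduct.AlgebraTensorModule.cancelBaseChange A A' A' Q M).restrictScalars A ≪≫ₗ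
      (TensorProduct.comm A Q M)
  have he : ∀ (m : M) (a : Q), e (((1 : P) ⊗ₜ[R] m) ⊗ₜ[A'] a) = m ⊗ₜ[A] a := by
    intro m a
    simp [e, g, Algebra.IsPushout.cancelBaseChange_tmul]
  let θ : M →ₗ[A] P ⊗[R] M := (TensorProduct.mk R P M 1).restrictScalars A
  have heθ : ∀ v, e (chi (A' := A') θ v) = v := by
    intro v
    induction v using TensorProduct.induction_on with
    | zero => simp
    | tmul m a => rw [chi_tmul]; exact he m a
    | add a b ha hb => rw [map_add, map_add, ha, hb]
  have hesymm : ∀ v, e.symm v = chi (A' := A') θ v := fun v => by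
    rw [LinearEquiv.symm_apply_eq, heθ]
  -- the image of `t` is killed outside every prime over `x`
  let T := chi (A' := A') θ t
  let J : Ideal P := LinearMap.ker (LinearMap.toSpanSingleton P ((P ⊗[R] M) ⊗[A'] Q) T)
  have hJ : ∀ p : Ideal P, p.IsPrime → p.comap (algebraMap R P) = x →
      m'.map (algebraMap A' P) ≤ p → ¬ J ≤ p := by
    intro p hp hpx hpm hle
    obtain ⟨j, rfl⟩ := hall p hp hpx hpm
    have : IsLocalizedModule (q j).primeCompl
        (TensorProduct.AlgebraTensorModule.rTensor A' Q (ν j)) := inferInstance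
    have h0 : TensorProduct.AlgebraTensorModule.rTensor A' Q (ν j) T = 0 := by
      have hnat : ∀ v, TensorProduct.AlgebraTensorModule.rTensor A' Q (ν j) (chi (A' := A') θ v) =
          chi (A' := A') (ψ j) (TensorProduct.AlgebraTensorModule.rTensor A Q loc v) := by
        intro v
        induction v using TensorProduct.induction_on with
        | zero => simp
        | tmul m a => simp [θ, hψ]
        | add a b ha hb => simp only [map_add, ha, hb]
      rw [hnat, ← hst']
      have hsv : ∀ v : Mx ⊗[A] Q, chi (A' := A') (ψ j) (s • v) =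
          algebraMap R P s • chi (A' := A') (ψ j) v := by
        intro v
        induction v using TensorProduct.induction_on with
        | zero => simp
        | tmul m a =>
          rw [smul_tmul', chi_tmul, chi_tmul, smul_tmul', hψR]
        | add a b ha hb => simp only [smul_add, map_add, ha, hb]
      rw [hsv, hw j, smul_zero]
    obtain ⟨⟨c, hc⟩, hct⟩ := (IsLocalizedModule.eq_zero_iff (q j).primeCompl
      (TensorProduct.AlgebraTensorModule.rTensor A' Q (ν j))).1 h0
    exact hc (hle hct)
  -- conclude
  have hmem : ∀ n : ℕ, ∃ d ∉ x, d • t ∈ x ^ n • (⊤ : Submodule R (M ⊗[A] Q)) := by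
    intro n
    by_contra hno
    push Not at hno
    let K : Ideal P := (J ⊔ m'.map (algebraMap A' P)) ⊔ (x ^ n).map (algebraMap R P)
    have hdisj : Disjoint (K : Set P) (x.primeCompl.map (algebraMap R P) : Set P) := by
      rw [Set.disjoint_left]
      rintro _ hdK ⟨d, hd, rfl⟩
      change algebraMap R P d ∈ K at hdK
      obtain ⟨j₁, hj₁, j₂, hj₂, hsum⟩ := Submodule.mem_sup.1 hdK
      refine hno d hd ?_
      have h1 : algebraMap R P d • T = j₂ • T := by
        obtain ⟨j₀, hj₀, j₀', hj₀', hsum'⟩ := Submodule.mem_sup.1 hj₁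
        have hkill : ∀ z : P, z ∈ m'.map (algebraMap A' P) → ∀ v : (P ⊗[R] M) ⊗[A'] Q, z • v = 0 := by
          intro z hz
          induction hz using Submodule.span_induction with
          | mem z hz =>
            obtain ⟨a, ha, rfl⟩ := hz
            intro v
            induction v using TensorProduct.induction_on with
            | zero => rw [smul_zero]
            | tmul y u => rw [smul_tmul', algebraMap_smul, smul_tmul, hQ' a ha, tmul_zero]
            | add v v' hv hv' => rw [smul_add, hv, hv', add_zero]
          | zero => intro v; rw [zero_smul]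
          | add z z' _ _ hz hz' => intro v; rw [add_smul, hz, hz', add_zero]
          | smul c z _ hz => intro v; rw [smul_eq_mul, mul_smul, hz, smul_zero]
        rw [← hsum, ← hsum', add_smul, add_smul, show j₀ • T = 0 from hj₀, hkill j₀' hj₀' T,
          zero_add, zero_add]
      have h2 : j₂ • T ∈ (x ^ n).map (algebraMap R P) • (⊤ : Submodule P ((P ⊗[R] M) ⊗[A'] Q)) :=
        Submodule.smul_mem_smul hj₂ Submodule.mem_top
      rw [← h1, ← Submodule.restrictScalars_mem R, Ideal.smul_restrictScalars,
        Submodule.restrictScalars_top, algebraMap_smul] at h2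
      have hsm : ∀ (r : R) (v : M ⊗[A] Q), chi (A' := A') θ (r • v) = r • chi (A' := A') θ v := by
        intro r v
        induction v using TensorProduct.induction_on with
        | zero => simp
        | tmul m a => simp [θ, smul_tmul']
        | add a b ha hb => simp only [smul_add, map_add, ha, hb]
      have h3 : chi (A' := A') θ (d • t) ∈ x ^ n • (⊤ : Submodule R ((P ⊗[R] M) ⊗[A'] Q)) := by
        rw [hsm]; exact h2
      let eR : M ⊗[A] Q ≃ₗ[R] (P ⊗[R] M) ⊗[A'] Q :=
        e.symm.toAddEquiv.toLinearEquiv fun r v => by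
          show e.symm (r • v) = r • e.symm v
          rw [hesymm, hesymm, hsm]
      have h4 : eR (d • t) ∈ (x ^ n • (⊤ : Submodule R (M ⊗[A] Q))).map eR.toLinearMap := by
        rw [Submodule.map_smul'', Submodule.map_top, LinearEquiv.range]
        show e.symm (d • t) ∈ _
        rw [hesymm]
        exact h3
      obtain ⟨v, hv, hv'⟩ := h4
      exact eR.injective hv' ▸ hv
    obtain ⟨p, hp, hKp, hdp⟩ := Ideal.exists_le_prime_disjoint K _ hdisj
    have h1 : p.comap (algebraMap R P) ≤ x := by
      intro r hr
      by_contra hrx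
      exact Set.disjoint_left.1 hdp hr ⟨r, hrx, rfl⟩
    have h2 : x ≤ p.comap (algebraMap R P) := by
      intro r hr
      rcases eq_or_ne n 0 with rfl | hn
      · exfalso
        apply hp.ne_top
        rw [eq_top_iff]
        exact le_trans (by rw [pow_zero, Ideal.one_eq_top, Ideal.map_top])
          (le_trans le_sup_right hKp)
      · exact hp.mem_of_pow_mem n (by
          rw [← map_pow]
          exact hKp (Ideal.mem_sup_right (Ideal.mem_map_of_mem _ (Ideal.pow_mem_pow hr n))))
    exact hJ p hp (le_antisymm h1 h2) (le_trans (le_sup_right.trans le_sup_left) hKp)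
      (le_trans (le_sup_left.trans le_sup_left) hKp)
  refine eq_zero_of_forall_mem_pow_smul x hQ w fun n => ?_
  obtain ⟨d, hd, hdt⟩ := hmem n
  have h1 : (d * s) • w ∈ x ^ n • (⊤ : Submodule R (Mx ⊗[A] Q)) := by
    rw [mul_smul, hst', ← map_smul]
    have h2 := Submodule.mem_map_of_mem (f := TensorProduct.AlgebraTensorModule.rTensor A Q loc) hdt
    rw [Submodule.map_smul''] at h2
    exact Submodule.smul_mono le_rfl le_top h2
  have hu : IsUnit (algebraMap R (Module.End R (Mx ⊗[A] Q)) (d * s)) :=
    IsLocalizedModule.map_units (TensorProduct.AlgebraTensorModule.rTensor A Q loc)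
      (⟨d * s, ‹x.IsPrime›.mul_notMem hd hs⟩ : x.primeCompl)
  obtain ⟨v, hv⟩ := hu.exists_left_inv
  have h3 := Submodule.mem_map_of_mem (f := v) h1
  rw [Submodule.map_smul''] at h3
  have h4 : v ((d * s) • w) = w := by
    have h5 : v ((algebraMap R (Module.End R (Mx ⊗[A] Q)) (d * s)) w) = w := LinearMap.congr_fun hv w
    exact h5
  rw [h4] at h3
  exact Submodule.smul_mono le_rfl le_top h3

end Groth.EGA43Closed
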