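import Groth.Agent.EGA43Closed.Detect
import Groth.Agent.EGA43Art.Scheme

/-!
Detection at the points over a closed subset of the base change.
-/

set_option autoImplicit false
set_option backward.isDefEq.respectTransparency.types false
universe u

open CategoryTheory Limits AlgebraicGeometry Opposite TopologicalSpace TensorProduct

namespace Groth.EGA43Closed

open Groth.EGA43Art (chi pointsOver)
open Groth.QCohMod (sectionsAlg stalkModule germₗ isLocalizedModule_germ pullSecEquiv)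
open Groth.EGA43Sep (prodOpen prodOpen_le isAffineOpen_prodOpen)

variable {X S S' : Scheme.{u}} (p : X ⟶ S) (q : S' ⟶ S) {U : X.Opens} {V : S.Opens} {W : S'.Opens}
  (e₁ : U ≤ p ⁻¹ᵁ V) (e₂ : W ≤ q ⁻¹ᵁ V)

theorem detect_pointsOver_closed (hV : IsAffineOpen V) (hW : IsAffineOpen W) (hU : IsAffineOpen U)
    [IsArtinianRing Γ(S, V)] [IsLocalRing Γ(S, V)] [IsNoetherianRing Γ(X, U)]
    (F : X.Modules) [F.IsQuasicoherent] [Module.Finite Γ(X, U) Γ(F, U)] (x : X) (hx : x ∈ U)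
    (m' : Ideal Γ(S', W)) (hflat : ∀ y : pointsOver p q x U W,
      m' ≤ (hW.primeIdealOf ⟨pullback.snd p q y.1, y.2.1.2⟩).asIdeal → FlatMod.IsFlatOverAt (pullback.snd p q)
      ((Scheme.Modules.pullback (pullback.fst p q)).obj F) y.1) :
    letI := (p.appLE V U e₁).hom.toAlgebra
    letI := (q.appLE V W e₂).hom.toAlgebra
    letI : Module Γ(S, V) Γ(F, U) := Module.compHom _ (p.appLE V U e₁).hom
    haveI : IsScalarTower Γ(S, V) Γ(X, U) Γ(F, U) := IsScalarTower.of_algebraMap_smul fun _ _ => rfl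
    ∃ (κ : Type u) (N : κ → Type u) (_ : ∀ j, AddCommGroup (N j))
      (_ : ∀ j, Module Γ(S', W) (N j)) (_ : ∀ j, Module Γ(S, V) (N j))
      (_ : ∀ j, IsScalarTower Γ(S, V) Γ(S', W) (N j)) (_ : ∀ j, Module.Flat Γ(S', W) (N j))
      (ψ : ∀ j, LocalizedModule (hU.primeIdealOf ⟨x, hx⟩).asIdeal.primeCompl Γ(F, U)
        →ₗ[Γ(S, V)] N j),
      ∀ (Q : Type u) [AddCommGroup Q] [Module Γ(S', W) Q] [Module Γ(S, V) Q]
        [IsScalarTower Γ(S, V) Γ(S', W) Q],
        (∀ a ∈ IsLocalRing.maximalIdeal Γ(S, V), ∀ e : Q, a • e = 0) →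
        (∀ a ∈ m', ∀ e : Q, a • e = 0) →
        ∀ w : LocalizedModule (hU.primeIdealOf ⟨x, hx⟩).asIdeal.primeCompl Γ(F, U) ⊗[Γ(S, V)] Q,
          (∀ j, chi (A' := Γ(S', W)) (ψ j) w = 0) → w = 0 := by
  let pr := pullback.fst p q
  let P := prodOpen p q U W
  have eP : P ≤ pr ⁻¹ᵁ U := prodOpen_le p q U W
  have hP : IsAffineOpen P := isAffineOpen_prodOpen p q e₁ e₂ hV hW hU
  let _ := (p.appLE V U e₁).hom.toAlgebra
  let _ := (q.appLE V W e₂).hom.toAlgebra
  let _ : Module Γ(S, V) Γ(F, U) := Module.compHom _ (p.appLE V U e₁).hom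
  have : IsScalarTower Γ(S, V) Γ(X, U) Γ(F, U) := IsScalarTower.of_algebraMap_smul fun _ _ => rfl
  let _ := sectionsAlg pr eP
  let _ : Algebra Γ(S', W) Γ(pullback p q, P) :=
    ((pullback.snd p q).appLE W P inf_le_right).hom.toAlgebra
  let _ : Algebra Γ(S, V) Γ(pullback p q, P) :=
    ((p.appLE V U e₁) ≫ pr.appLE U P eP).hom.toAlgebra
  have : IsScalarTower Γ(S, V) Γ(X, U) Γ(pullback p q, P) :=
    IsScalarTower.of_algebraMap_eq fun _ => rfl
  have hpush := (isIso_pushoutSection_iff (IsPullback.of_hasPullback p q)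
    (US := V) (UT := W) (UX := U) (UY := P) e₂ e₁ rfl).1
    (isIso_pushoutSection_of_isAffineOpen (IsPullback.of_hasPullback p q) e₂ e₁ rfl hV hW hU)
  have : IsScalarTower Γ(S, V) Γ(S', W) Γ(pullback p q, P) :=
    IsScalarTower.of_algebraMap_eq fun r => congrArg (fun φ => φ.hom r) hpush.w
  have : Algebra.IsPushout Γ(S, V) Γ(X, U) Γ(S', W) Γ(pullback p q, P) :=
    CommRingCat.isPushout_iff_isPushout.1 hpush
  have : Algebra.IsPushout Γ(S, V) Γ(S', W) Γ(X, U) Γ(pullback p q, P) :=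
    Algebra.IsPushout.symm inferInstance
  let 𝔭 := (hU.primeIdealOf ⟨x, hx⟩).asIdeal
  let κ := {y : pointsOver p q x U W // m' ≤ (hW.primeIdealOf ⟨pullback.snd p q y.1, y.2.1.2⟩).asIdeal}
  let F' := (Scheme.Modules.pullback pr).obj F
  let N := fun y : κ => (F'.presheaf.stalk y.1.1 : Type u)
  letI : ∀ y : κ, Module Γ(pullback p q, P) (N y) := fun y => stalkModule F' y.1.1 y.1.2.1
  letI : ∀ y : κ, Module Γ(S', W) (N y) := fun y =>
    Module.compHom _ (algebraMap Γ(S', W) Γ(pullback p q, P))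
  letI : ∀ y : κ, Module Γ(S, V) (N y) := fun y =>
    Module.compHom _ (algebraMap Γ(S, V) Γ(pullback p q, P))
  letI : ∀ y : κ, Module Γ(X, U) (N y) := fun y =>
    Module.compHom _ (algebraMap Γ(X, U) Γ(pullback p q, P))
  have ht₁ : ∀ y : κ, IsScalarTower Γ(S', W) Γ(pullback p q, P) (N y) := fun y =>
    IsScalarTower.of_algebraMap_smul fun _ _ => rfl
  have ht₂ : ∀ y : κ, IsScalarTower Γ(S, V) Γ(S', W) (N y) := fun y =>
    IsScalarTower.of_algebraMap_smul fun r v => by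
      show algebraMap Γ(S', W) Γ(pullback p q, P) (algebraMap Γ(S, V) Γ(S', W) r) • v =
        algebraMap Γ(S, V) Γ(pullback p q, P) r • v
      rw [← IsScalarTower.algebraMap_apply]
  have ht₃ : ∀ y : κ, IsScalarTower Γ(X, U) Γ(pullback p q, P) (N y) := fun y =>
    IsScalarTower.of_algebraMap_smul fun _ _ => rfl
  have ht₄ : ∀ y : κ, IsScalarTower Γ(S, V) Γ(X, U) (N y) := fun y =>
    IsScalarTower.of_algebraMap_smul fun r v => by
      show algebraMap Γ(X, U) Γ(pullback p q, P) (algebraMap Γ(S, V) Γ(X, U) r) • v =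
        algebraMap Γ(S, V) Γ(pullback p q, P) r • v
      rw [← IsScalarTower.algebraMap_apply]
  let qy := fun y : κ => (hP.primeIdealOf ⟨y.1.1, y.1.2.1⟩).asIdeal
  let ν : ∀ y : κ, Γ(pullback p q, P) ⊗[Γ(X, U)] Γ(F, U) →ₗ[Γ(pullback p q, P)] N y := fun y =>
    germₗ F' y.1.1 y.1.2.1 ∘ₗ (pullSecEquiv pr F eP hU hP).toLinearMap
  have hν : ∀ y : κ, IsLocalizedModule (qy y).primeCompl (ν y) := fun y => by
    have := isLocalizedModule_germ F' hP y.1.1 y.1.2.1
    exact IsLocalizedModule.of_linearEquiv_right _ _ _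
  have hqx : ∀ y : κ, (qy y).comap (algebraMap Γ(X, U) Γ(pullback p q, P)) = 𝔭 := by
    intro y
    ext r
    refine not_iff_not.1 ?_
    rw [Ideal.mem_comap]
    change pr.appLE U P eP r ∉ qy y ↔ r ∉ 𝔭
    rw [← Groth.QCohMod.mem_basicOpen_iff_notMem_primeIdealOf hP _ y.1.1 y.1.2.1,
      ← Groth.QCohMod.mem_basicOpen_iff_notMem_primeIdealOf hU r x hx, Scheme.basicOpen_appLE]
    simp only [← Scheme.preimage_basicOpen, TopologicalSpace.Opens.mem_inf]
    constructor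
    · intro h
      rw [← y.1.2.2]
      exact h.2
    · intro h
      refine ⟨y.1.2.1, ?_⟩
      show pr y.1.1 ∈ X.basicOpen r
      rw [show pr y.1.1 = x from y.1.2.2]
      exact h
  let loc := LocalizedModule.mkLinearMap 𝔭.primeCompl Γ(F, U)
  let θ : ∀ y : κ, Γ(F, U) →ₗ[Γ(X, U)] N y := fun y =>
    ((ν y).restrictScalars Γ(X, U)) ∘ₗ TensorProduct.mk Γ(X, U) Γ(pullback p q, P) Γ(F, U) 1
  have hunit : ∀ (y : κ) (s : 𝔭.primeCompl),
      IsUnit (algebraMap Γ(X, U) (Module.End Γ(X, U) (N y)) s) := by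
    intro y s
    have := hν y
    have hs : algebraMap Γ(X, U) Γ(pullback p q, P) s.1 ∈ (qy y).primeCompl := fun h =>
      s.2 ((Ideal.ext_iff.1 (hqx y) s.1).1 h)
    have h1 := (Module.End.isUnit_iff _).1 (IsLocalizedModule.map_units (ν y)
      (⟨_, hs⟩ : (qy y).primeCompl))
    exact (Module.End.isUnit_iff _).2 h1
  let ψ₀ : ∀ y : κ, LocalizedModule 𝔭.primeCompl Γ(F, U) →ₗ[Γ(X, U)] N y := fun y =>
    IsLocalizedModule.lift 𝔭.primeCompl loc (θ y) (hunit y)
  have : Module.Finite (Localization.AtPrime 𝔭) (LocalizedModule 𝔭.primeCompl Γ(F, U)) :=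
    Module.Finite.of_isLocalizedModule 𝔭.primeCompl loc
  refine ⟨κ, N, inferInstance, inferInstance, inferInstance, ht₂, fun y => ?_,
    fun y => (ψ₀ y).restrictScalars Γ(S, V), fun Q _ _ _ _ hQ hQ' w hw => ?_⟩
  · -- flatness over `Γ(S', W)` from flatness over the local ring
    let _ := FlatMod.moduleStalkOver (pullback.snd p q) F' y.1.1
    have hyW : pullback.snd p q y.1.1 ∈ W := y.1.2.1.2
    let _ := TopCat.Presheaf.algebra_section_stalk S'.presheaf ⟨pullback.snd p q y.1.1, hyW⟩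
    have : IsScalarTower Γ(S', W) (S'.presheaf.stalk (pullback.snd p q y.1.1)) (N y) :=
      IsScalarTower.of_algebraMap_smul fun r v => by
        change (pullback.snd p q).stalkMap y.1.1 (S'.presheaf.germ W _ hyW r) • v =
          (pullback p q).presheaf.germ P y.1.1 y.1.2.1 ((pullback.snd p q).appLE W P inf_le_right r) • v
        rw [Scheme.Hom.germ_stalkMap_apply]
        congr 1
        exact (TopCat.Presheaf.germ_res_apply (pullback p q).presheaf
          (homOfLE (inf_le_right : P ≤ _)) y.1.1 y.1.2.1 _).symm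
    have := hW.isLocalization_stalk ⟨pullback.snd p q y.1.1, hyW⟩
    exact (Module.flat_iff_of_isLocalization (S'.presheaf.stalk (pullback.snd p q y.1.1))
      (hW.primeIdealOf ⟨pullback.snd p q y.1.1, hyW⟩).asIdeal.primeCompl (N y)).1 (hflat y.1 y.2)
  · refine detect_over_closed (P := Γ(pullback p q, P)) 𝔭 loc qy hqx m' (fun 𝔮 h𝔮 h𝔮x h𝔮m => ?_) N ν
      (fun y => (ψ₀ y).restrictScalars Γ(S, V)) (fun y r v => ?_) (fun y m => ?_) hQ hQ' w hw
    · have hyP : hP.fromSpec ⟨𝔮, h𝔮⟩ ∈ P := by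
        change hP.fromSpec ⟨𝔮, h𝔮⟩ ∈ (P : Set _)
        rw [← hP.range_fromSpec]
        exact ⟨_, rfl⟩
      have hpt : hP.primeIdealOf ⟨hP.fromSpec ⟨𝔮, h𝔮⟩, hyP⟩ = ⟨𝔮, h𝔮⟩ :=
        hP.fromSpec.isOpenEmbedding.injective (hP.fromSpec_primeIdealOf _)
      have hyx : pr (hP.fromSpec ⟨𝔮, h𝔮⟩) = x := by
        have hyU : pr (hP.fromSpec ⟨𝔮, h𝔮⟩) ∈ U := eP hyP
        have h1 : hU.primeIdealOf ⟨pr (hP.fromSpec ⟨𝔮, h𝔮⟩), hyU⟩ = hU.primeIdealOf ⟨x, hx⟩ := by
          apply PrimeSpectrum.ext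
          ext r
          refine not_iff_not.1 ?_
          rw [← Groth.QCohMod.mem_basicOpen_iff_notMem_primeIdealOf hU r _ hyU]
          change _ ↔ r ∉ 𝔭
          rw [← h𝔮x, Ideal.mem_comap]
          have h2 := Groth.QCohMod.mem_basicOpen_iff_notMem_primeIdealOf hP
            (pr.appLE U P eP r) (hP.fromSpec ⟨𝔮, h𝔮⟩) hyP
          rw [hpt] at h2
          refine Iff.trans ?_ h2
          rw [Scheme.basicOpen_appLE]
          simp only [← Scheme.preimage_basicOpen, TopologicalSpace.Opens.mem_inf]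
          exact ⟨fun h => ⟨hyP, h⟩, fun h => h.2⟩
        have h2 := congrArg hU.fromSpec h1
        rwa [hU.fromSpec_primeIdealOf, hU.fromSpec_primeIdealOf] at h2
      refine ⟨⟨⟨_, hyP, hyx⟩, fun c hc => ?_⟩, congrArg PrimeSpectrum.asIdeal hpt⟩
      by_contra hcn
      have h1 := (Groth.QCohMod.mem_basicOpen_iff_notMem_primeIdealOf hW c _ hyP.2).2 hcn
      have h2 := Groth.QCohMod.mem_basicOpen_iff_notMem_primeIdealOf hP
        ((pullback.snd p q).appLE W P inf_le_right c) (hP.fromSpec ⟨𝔮, h𝔮⟩) hyP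
      rw [hpt] at h2
      refine h2.1 ?_ (h𝔮m (Ideal.mem_map_of_mem _ hc))
      rw [Scheme.basicOpen_appLE]
      exact ⟨hyP, h1⟩
    · show ψ₀ y (r • v) = _
      rw [map_smul]
      rfl
    · show ψ₀ y (loc m) = _
      exact IsLocalizedModule.lift_apply 𝔭.primeCompl loc (θ y) (hunit y) m

end Groth.EGA43Closed
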